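import Mathlib
import Cfsg.Agent.Lib.Helper60.OFM.Syl4Defs
import Cfsg.Agent.Lib.Helper75.OFM.Syl4PolyA

/-!
# OFM (S5978), SYL4 leaf [PINV]
-/

set_option autoImplicit false

namespace Cfsg.Agent.Lib.Helper75.OFM

open Matrix Cfsg.Agent.Lib.Helper23.OHyp Cfsg.Agent.Lib.Helper60.OFM

universe u

section

variable {F : Type u} [Field F] {ι : Type} [Fintype ι] [DecidableEq ι]

theorem pinv_mem_fix {x : Matrix ι ι F} {w : ι → F} : w ∈ fixSp x ↔ x *ᵥ w = w := by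
  unfold fixSp
  rw [LinearMap.mem_ker, LinearMap.sub_apply, Matrix.toLin'_apply, Module.End.one_apply,
    sub_eq_zero]

theorem pinv_mem_mov {x : Matrix ι ι F} {w : ι → F} : w ∈ movSp x ↔ ∃ u, x *ᵥ u - u = w := by
  unfold movSp
  rw [LinearMap.mem_range]
  simp only [LinearMap.sub_apply, Matrix.toLin'_apply, Module.End.one_apply]

theorem pinv_key (r : ℕ) (x : Matrix ι ι F) :
    ((r : F) • (1 : Matrix ι ι F)) = (∑ k ∈ Finset.range r, x ^ k) -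
      (x - 1) * ∑ k ∈ Finset.range r, ∑ j ∈ Finset.range k, x ^ j := by
  rw [Finset.mul_sum]
  simp_rw [mul_geom_sum]
  rw [← Finset.sum_sub_distrib]
  simp [Nat.cast_smul_eq_nsmul]

theorem pinv_aeval (r : ℕ) (x : Matrix ι ι F) :
    Polynomial.aeval x (psi F r) = ∑ k ∈ Finset.range r, x ^ k := by
  unfold psi
  simp [map_sum]

/-- `movSp x` is the kernel of `1 + x + ⋯ + x ^ (r - 1)` -/
theorem pinv_mov_iff (r : ℕ) (x : Matrix ι ι F) (hr : (r : F) ≠ 0) (hx : x ^ r = 1) (w : ι → F) :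
    w ∈ movSp x ↔ (∑ k ∈ Finset.range r, x ^ k) *ᵥ w = 0 := by
  rw [pinv_mem_mov]
  constructor
  · rintro ⟨u, rfl⟩
    have h1 : x *ᵥ u - u = (x - 1) *ᵥ u := by rw [Matrix.sub_mulVec, Matrix.one_mulVec]
    rw [h1, Matrix.mulVec_mulVec, geom_sum_mul, hx, sub_self, Matrix.zero_mulVec]
  · intro h
    have hk := congrArg (fun M : Matrix ι ι F => M *ᵥ w) (pinv_key r x)
    simp only [Matrix.smul_mulVec, Matrix.one_mulVec, Matrix.sub_mulVec, h, zero_sub] at hk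
    set T : Matrix ι ι F := ∑ k ∈ Finset.range r, ∑ j ∈ Finset.range k, x ^ j with hT
    refine ⟨-((r : F)⁻¹ • (T *ᵥ w)), ?_⟩
    have h2 : ((x - 1) * T) *ᵥ w = x *ᵥ (T *ᵥ w) - T *ᵥ w := by
      rw [← Matrix.mulVec_mulVec, Matrix.sub_mulVec, Matrix.one_mulVec]
    rw [h2] at hk
    have h4 : w = (r : F)⁻¹ • (-(x *ᵥ (T *ᵥ w) - T *ᵥ w)) := by
      rw [← hk, smul_smul, inv_mul_cancel₀ hr, one_smul]
    rw [Matrix.mulVec_neg, Matrix.mulVec_smul]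
    conv_rhs => rw [h4]
    rw [smul_neg, smul_sub]
    abel

end

/-- [PINV] -/
theorem pkgPInv : PkgPInv.{u} := by
  intro F _ ι _ _ r x hr hx W hxW g hgW hcomm
  refine ⟨?_, ?_⟩
  · rintro w ⟨hw, hwf⟩
    refine ⟨hgW w hw, ?_⟩
    have hwf' : w ∈ fixSp x := hwf
    rw [pinv_mem_fix] at hwf'
    show g *ᵥ w ∈ fixSp x
    rw [pinv_mem_fix, ← hcomm w hw, hwf']
  · rintro w ⟨hw, hwm⟩
    refine ⟨hgW w hw, ?_⟩
    have hwm' : w ∈ movSp x := hwm
    rw [pinv_mov_iff r x hr hx] at hwm'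
    show g *ᵥ w ∈ movSp x
    rw [pinv_mov_iff r x hr hx]
    have h := pkgPolyB x g W hxW hcomm (psi F r) w hw
    rw [pinv_aeval] at h
    rw [← h, hwm', Matrix.mulVec_zero]

end Cfsg.Agent.Lib.Helper75.OFM
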